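import Mathlib

/-!
Tools for lower bounds on degrees of complex representations: eigencharacters of an abelian image.
-/

set_option autoImplicit false

namespace Cfsg.Agent.Lib.MinDegree

open Module
open scoped commutatorElement

variable {G : Type*} [Group G] {V : Type*} [AddCommGroup V] [Module ℂ V]
variable (ρ : Representation ℂ G V) {A : Type*} [AddCommGroup A] [Finite A]
variable (τ : Multiplicative A →* G)

/-- `χ` occurs in the restriction of `ρ` along `τ`. -/
def Occurs (χ : AddChar A ℂ) : Prop :=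
  ∃ v : V, v ≠ 0 ∧ ∀ a : A, ρ (τ (Multiplicative.ofAdd a)) v = χ a • v

/-- The projection on the `χ`-eigenspace. -/
noncomputable def eigenProj [Fintype A] (χ : AddChar A ℂ) : V →ₗ[ℂ] V :=
  (Fintype.card A : ℂ)⁻¹ • ∑ a : A, χ (-a) • ρ (τ (Multiplicative.ofAdd a))

theorem eigenProj_apply [Fintype A] (χ : AddChar A ℂ) (v : V) :
    eigenProj ρ τ χ v =
      (Fintype.card A : ℂ)⁻¹ • ∑ a : A, χ (-a) • ρ (τ (Multiplicative.ofAdd a)) v := by
  simp [eigenProj, LinearMap.sum_apply]

theorem eigenProj_mem [Fintype A] (χ : AddChar A ℂ) (v : V) (b : A) :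
    ρ (τ (Multiplicative.ofAdd b)) (eigenProj ρ τ χ v) = χ b • eigenProj ρ τ χ v := by
  rw [eigenProj_apply, map_smul, smul_comm]
  congr 1
  rw [map_sum, Finset.smul_sum]
  refine Fintype.sum_equiv (Equiv.addLeft b) _ _ fun a => ?_
  simp only [map_smul, Equiv.coe_addLeft]
  rw [← Module.End.mul_apply, ← map_mul, ← map_mul, ← ofAdd_add, smul_smul,
    ← AddChar.map_add_eq_mul]
  congr 2
  abel

theorem sum_eigenProj [Fintype A] (v : V) :
    ∑ χ : AddChar A ℂ, eigenProj ρ τ χ v = v := by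
  classical
  simp only [eigenProj_apply]
  rw [← Finset.smul_sum, Finset.sum_comm]
  simp only [← Finset.sum_smul, AddChar.sum_apply_eq_ite, neg_eq_zero, ite_smul, zero_smul,
    Finset.sum_ite_eq', Finset.mem_univ, if_true, ofAdd_zero, map_one, Module.End.one_apply,
    smul_smul]
  rw [inv_mul_cancel₀ (Nat.cast_ne_zero.2 Fintype.card_ne_zero), one_smul]

/-- If some element acts non-trivially, a non-trivial character occurs. -/
theorem exists_occurs {a₀ : A} (h : ρ (τ (Multiplicative.ofAdd a₀)) ≠ 1) :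
    ∃ χ : AddChar A ℂ, χ a₀ ≠ 1 ∧ Occurs ρ τ χ := by
  classical
  have := Fintype.ofFinite A
  by_contra hc
  push Not at hc
  refine h (LinearMap.ext fun v => ?_)
  rw [Module.End.one_apply]
  conv_lhs => rw [← sum_eigenProj ρ τ v, map_sum]
  conv_rhs => rw [← sum_eigenProj ρ τ v]
  refine Finset.sum_congr rfl fun χ _ => ?_
  rw [eigenProj_mem]
  by_cases hχ : χ a₀ = 1
  · rw [hχ, one_smul]
  · by_cases hv : eigenProj ρ τ χ v = 0
    · rw [hv, smul_zero]
    · exact absurd ⟨_, hv, eigenProj_mem ρ τ χ v⟩ (hc χ hχ)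

/-- An element normalizing the abelian image permutes the occurring characters. -/
theorem Occurs.conj {χ : AddChar A ℂ} (hχ : Occurs ρ τ χ) (g : G) (σ : A →+ A)
    (hg : ∀ a, g⁻¹ * τ (Multiplicative.ofAdd a) * g = τ (Multiplicative.ofAdd (σ a))) :
    Occurs ρ τ (χ.compAddMonoidHom σ) := by
  obtain ⟨v, hv0, hv⟩ := hχ
  have hinv : ∀ w, ρ g⁻¹ (ρ g w) = w := fun w => by
    rw [← Module.End.mul_apply, ← map_mul, inv_mul_cancel, map_one, Module.End.one_apply]
  refine ⟨ρ g v, fun h => hv0 ?_, fun a => ?_⟩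
  · rw [← hinv v, h, map_zero]
  · have h1 : τ (Multiplicative.ofAdd a) * g = g * τ (Multiplicative.ofAdd (σ a)) := by
      rw [← hg a]; group
    rw [← Module.End.mul_apply, ← map_mul, h1, map_mul, Module.End.mul_apply, hv, map_smul]
    rfl

/-- The number of occurring characters is at most the dimension. -/
theorem card_le_finrank [FiniteDimensional ℂ V] (s : Set (AddChar A ℂ))
    (hs : ∀ χ ∈ s, Occurs ρ τ χ) : Nat.card s ≤ finrank ℂ V := by
  classical
  have := Fintype.ofFinite A
  choose v hv0 hv using hs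
  have hli : LinearIndependent ℂ (fun χ : s => v χ.1 χ.2) := by
    rw [Fintype.linearIndependent_iff]
    intro g hg χ
    have h1 : ∀ ψ : s, eigenProj ρ τ χ.1 (v ψ.1 ψ.2) =
        (if ψ = χ then (1 : ℂ) else 0) • v ψ.1 ψ.2 := by
      intro ψ
      rw [eigenProj_apply]
      simp only [hv ψ.1 ψ.2, smul_smul, ← Finset.sum_smul]
      congr 1
      have hcast : (Fintype.card A : ℂ) ≠ 0 := Nat.cast_ne_zero.2 Fintype.card_ne_zero
      have hsum : ∑ a : A, χ.1 (-a) * ψ.1 a = ∑ a : A, (ψ.1 - χ.1) a := by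
        refine Finset.sum_congr rfl fun a _ => ?_
        rw [AddChar.sub_apply, mul_comm, AddChar.map_neg_eq_inv]
      rw [hsum, AddChar.sum_eq_ite]
      by_cases he : ψ = χ
      · rw [if_pos he, if_pos (by rw [he, sub_self]), inv_mul_cancel₀ hcast]
      · rw [if_neg he, if_neg (fun h => he (Subtype.ext (sub_eq_zero.1 h))), mul_zero]
    have h2 := congrArg (eigenProj ρ τ χ.1) hg
    rw [map_sum, map_zero] at h2
    simp only [map_smul, h1, ite_smul, one_smul, zero_smul, smul_ite, smul_zero] at h2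
    rw [Finset.sum_ite_eq', if_pos (Finset.mem_univ χ)] at h2
    exact (smul_eq_zero.1 h2).resolve_right (hv0 χ.1 χ.2)
  rw [Nat.card_eq_fintype_card]
  exact hli.fintype_card_le_finrank

variable {ρ}

/-- An irreducible representation with trivial image has dimension at most one. -/
theorem finrank_le_one_of_trivial (hρ : ρ.IsIrreducible) (h : ∀ g, ρ g = 1) : finrank ℂ V ≤ 1 := by
  by_cases hV : ∀ v : V, v = 0
  · have : Subsingleton V := ⟨fun a b => (hV a).trans (hV b).symm⟩
    simp [Module.finrank_zero_of_subsingleton]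
  push Not at hV
  obtain ⟨v, hv⟩ := hV
  let S : Subrepresentation ρ :=
    ⟨ℂ ∙ v, fun g w hw => by rw [h g, Module.End.one_apply]; exact hw⟩
  rcases hρ.eq_bot_or_eq_top S with hS | hS
  · have h1 : v ∈ S.toSubmodule := Submodule.mem_span_singleton_self v
    rw [hS] at h1
    exact absurd ((Submodule.mem_bot ℂ).1 h1) hv
  · have h2 : (ℂ ∙ v) = (⊤ : Submodule ℂ V) := congrArg Subrepresentation.toSubmodule hS
    rw [← finrank_top, ← h2, finrank_span_singleton hv]

/-- A normal subgroup of a perfect group with simple central quotient is central or everything. -/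
theorem normal_eq_top_of_not_le_center {H : Type*} [Group H] (hperf : commutator H = ⊤)
    [IsSimpleGroup (H ⧸ Subgroup.center H)] (N : Subgroup H) [N.Normal] {x : H} (hx : x ∈ N)
    (hxc : x ∉ Subgroup.center H) : N = ⊤ := by
  have hm : (N.map (QuotientGroup.mk' (Subgroup.center H))).Normal :=
    Subgroup.Normal.map inferInstance _ (QuotientGroup.mk'_surjective _)
  rcases hm.eq_bot_or_eq_top with h | h
  · refine absurd ?_ hxc
    have : QuotientGroup.mk' (Subgroup.center H) x ∈
        N.map (QuotientGroup.mk' (Subgroup.center H)) := Subgroup.mem_map_of_mem _ hx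
    rw [h, Subgroup.mem_bot] at this
    exact (QuotientGroup.eq_one_iff x).1 this
  · have hsup : N ⊔ Subgroup.center H = ⊤ := by
      rw [eq_top_iff]
      intro g _
      have hg : QuotientGroup.mk' (Subgroup.center H) g ∈
          N.map (QuotientGroup.mk' (Subgroup.center H)) := by rw [h]; exact Subgroup.mem_top _
      obtain ⟨k, hk, hkg⟩ := hg
      have hz : k⁻¹ * g ∈ Subgroup.center H := QuotientGroup.eq.1 hkg
      rw [← mul_inv_cancel_left k g]
      exact Subgroup.mul_mem_sup hk hz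
    rw [eq_top_iff, ← hperf, commutator_def, Subgroup.commutator_le]
    intro a _ b _
    have ha : a ∈ ((N ⊔ Subgroup.center H : Subgroup H) : Set H) := by rw [hsup]; trivial
    have hb : b ∈ ((N ⊔ Subgroup.center H : Subgroup H) : Set H) := by rw [hsup]; trivial
    rw [Subgroup.normal_mul] at ha hb
    · obtain ⟨n₁, hn₁, z₁, hz₁, rfl⟩ := ha
      obtain ⟨n₂, hn₂, z₂, hz₂, rfl⟩ := hb
      rw [SetLike.mem_coe, Subgroup.mem_center_iff] at hz₁ hz₂
      have c1 : Commute n₁ z₁ := hz₁ n₁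
      have hh1 : ∀ y, Commute z₁ y := fun y => (hz₁ y).symm
      have hh2 : ∀ y, Commute z₂ y := fun y => (hz₂ y).symm
      have he : ⁅n₁ * z₁, n₂ * z₂⁆ = ⁅n₁, n₂⁆ := by
        rw [commutatorElement_def, commutatorElement_def]
        calc n₁ * z₁ * (n₂ * z₂) * (n₁ * z₁)⁻¹ * (n₂ * z₂)⁻¹
            = n₁ * (z₁ * n₂) * z₂ * z₁⁻¹ * n₁⁻¹ * z₂⁻¹ * n₂⁻¹ := by group
          _ = n₁ * n₂ * (z₁ * (z₂ * z₁⁻¹)) * n₁⁻¹ * z₂⁻¹ * n₂⁻¹ := by
              rw [(hh1 n₂).eq]; group
          _ = n₁ * n₂ * (z₂ * n₁⁻¹) * z₂⁻¹ * n₂⁻¹ := by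
              rw [(hh2 z₁⁻¹).eq]; group
          _ = n₁ * n₂ * n₁⁻¹ * n₂⁻¹ := by
              rw [(hh2 n₁⁻¹).eq]; group
      rw [he, commutatorElement_def]
      exact N.mul_mem (N.mul_mem (N.mul_mem hn₁ hn₂) (N.inv_mem hn₁)) (N.inv_mem hn₂)

end Cfsg.Agent.Lib.MinDegree
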