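import Mathlib

/-!
An orbit of non-zero symmetric matrices under congruence has at least `(q ^ n - 1) / 2` elements
(odd characteristic): double counting of pairs `(S, x)` with `xᵀ S x = c`.
-/

set_option autoImplicit false

namespace Cfsg.Agent.Lib.MinDegree

open Matrix

variable {F : Type*} [Field F] {n : ℕ}

/-- A non-zero symmetric matrix has a non-isotropic vector when 2 is invertible. -/
theorem exists_quad_ne_zero {S : Matrix (Fin n) (Fin n) F} (hS : S.IsSymm) (h2 : (2 : F) ≠ 0)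
    (h0 : S ≠ 0) : ∃ v : Fin n → F, v ⬝ᵥ (S *ᵥ v) ≠ 0 := by
  by_contra h
  push Not at h
  refine h0 (Matrix.ext fun i j => ?_)
  have key : ∀ i j, (Pi.single i (1 : F) : Fin n → F) ⬝ᵥ (S *ᵥ Pi.single j 1) = S i j := fun i j => by
    simp [Matrix.mulVec_single_one, single_one_dotProduct]
  have h1 := h (Pi.single i 1 + Pi.single j 1)
  rw [mulVec_add, add_dotProduct, dotProduct_add, dotProduct_add, h, h, key, key, hS.apply i j,
    zero_add, add_zero, ← two_mul] at h1
  rw [Matrix.zero_apply]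
  exact (mul_eq_zero.1 h1).resolve_left h2

/-- At most `2 q ^ (n - 1)` vectors have a given value of a non-zero quadratic form. -/
theorem card_quad_le [Fintype F] (S : Matrix (Fin (n + 1)) (Fin (n + 1)) F) (hS : S.IsSymm)
    {v : Fin (n + 1) → F} (hv : v ⬝ᵥ (S *ᵥ v) ≠ 0) (c : F) :
    Nat.card {x : Fin (n + 1) → F // x ⬝ᵥ (S *ᵥ x) = c} ≤ 2 * Fintype.card F ^ n := by
  classical
  obtain ⟨k, hk⟩ : ∃ k, v k ≠ 0 := by
    by_contra h
    push Not at h
    exact hv (by rw [show v = 0 from funext h]; simp)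
  rw [Nat.card_eq_fintype_card, Fintype.card_subtype]
  let proj : (Fin (n + 1) → F) → Fin n → F :=
    fun x i => (x - (x k / v k) • v) (k.succAbove i)
  refine le_trans (Finset.card_le_mul_card_image (f := proj) _ 2 fun y _ => ?_)
    (Nat.mul_le_mul_left 2 ((Finset.card_le_univ _).trans (by simp)))
  set T := ({x : Fin (n + 1) → F | x ⬝ᵥ (S *ᵥ x) = c} : Finset _).filter (fun x => proj x = y)
    with hT
  set y' : Fin (n + 1) → F := k.insertNth 0 y
  have hrec : ∀ x ∈ T, x = y' + (x k / v k) • v := by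
    intro x hx
    rw [hT, Finset.mem_filter] at hx
    funext i
    rcases Fin.eq_self_or_eq_succAbove k i with rfl | ⟨j, rfl⟩
    · simp [y', hk]
    · simp [y', ← hx.2, proj]
  have hinj : Set.InjOn (fun x : Fin (n + 1) → F => x k / v k) T := fun a ha b hb h => by
    have h' : a k / v k = b k / v k := h
    rw [hrec a ha, hrec b hb, h']
  rw [← Finset.card_image_of_injOn hinj]
  set A := v ⬝ᵥ (S *ᵥ v)
  set B := 2 * (v ⬝ᵥ (S *ᵥ y'))
  set C' := y' ⬝ᵥ (S *ᵥ y') - c
  have hsub : T.image (fun x => x k / v k) ⊆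
      (Polynomial.C A * Polynomial.X ^ 2 + Polynomial.C B * Polynomial.X +
        Polynomial.C C').roots.toFinset := by
    intro t ht
    obtain ⟨x, hx, rfl⟩ := Finset.mem_image.1 ht
    have hxe := hrec x hx
    rw [hT, Finset.mem_filter, Finset.mem_filter] at hx
    have hq := hx.1.2
    set t := x k / v k
    have hcross : y' ⬝ᵥ (S *ᵥ v) = v ⬝ᵥ (S *ᵥ y') := by
      rw [dotProduct_mulVec, dotProduct_comm, ← mulVec_transpose, hS.eq]
    rw [hxe, mulVec_add, mulVec_smul, add_dotProduct, dotProduct_add, dotProduct_add,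
      smul_dotProduct, smul_dotProduct, dotProduct_smul, dotProduct_smul, hcross] at hq
    rw [Multiset.mem_toFinset, Polynomial.mem_roots (fun h0 => hv (by
      have := congrArg (Polynomial.coeff · 2) h0
      simpa [Polynomial.coeff_C, A] using this))]
    simp only [smul_eq_mul] at hq
    simp [A, B, C', ← hq]
    ring
  refine (Finset.card_le_card hsub).trans ((Multiset.toFinset_card_le _).trans
    ((Polynomial.card_roots' _).trans ?_))
  exact (Polynomial.natDegree_quadratic_le)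

/-- There is an invertible matrix carrying a pair (vector, functional) to another with the same
value. -/
theorem exists_matrix_pair {x φ y φ' : Fin n → F} (hc : x ⬝ᵥ φ = y ⬝ᵥ φ') (h0 : y ⬝ᵥ φ' ≠ 0) :
    ∃ g : GL (Fin n) F, (g : Matrix (Fin n) (Fin n) F) *ᵥ y = x ∧
      (g : Matrix (Fin n) (Fin n) F)ᵀ *ᵥ φ = φ' := by
  have hx0 : x ⬝ᵥ φ ≠ 0 := hc ▸ h0
  let f1 : (Fin n → F) →ₗ[F] F :=
    { toFun := fun z => z ⬝ᵥ φ
      map_add' := fun a b => add_dotProduct a b φ
      map_smul' := fun r a => smul_dotProduct r a φ }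
  let f2 : (Fin n → F) →ₗ[F] F :=
    { toFun := fun z => z ⬝ᵥ φ'
      map_add' := fun a b => add_dotProduct a b φ'
      map_smul' := fun r a => smul_dotProduct r a φ' }
  have hf1 : f1 ≠ 0 := fun h => hx0 (LinearMap.congr_fun h x)
  have hf2 : f2 ≠ 0 := fun h => h0 (LinearMap.congr_fun h y)
  have hk : Module.finrank F (LinearMap.ker f2) = Module.finrank F (LinearMap.ker f1) := by
    have a1 := Module.Dual.finrank_ker_add_one_of_ne_zero hf1
    have a2 := Module.Dual.finrank_ker_add_one_of_ne_zero hf2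
    omega
  replace h0 : f2 y ≠ 0 := h0
  let e := LinearEquiv.ofFinrankEq _ _ hk
  let P : (Fin n → F) →ₗ[F] LinearMap.ker f2 :=
    (LinearMap.id - (f2 y)⁻¹ • f2.smulRight y).codRestrict _ fun z => by
      show f2 (z - (f2 y)⁻¹ • (f2 z • y)) = 0
      rw [map_sub, map_smul, map_smul, smul_eq_mul, smul_eq_mul, mul_comm (f2 z), ← mul_assoc,
        inv_mul_cancel₀ h0, one_mul, sub_self]
  let T : (Fin n → F) →ₗ[F] (Fin n → F) :=
    (f2 y)⁻¹ • f2.smulRight x + (LinearMap.ker f1).subtype.comp (e.toLinearMap.comp P)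
  have hT : ∀ z, T z = (f2 y)⁻¹ • f2 z • x + (e (P z) : Fin n → F) := fun z => rfl
  have hP : ∀ z, (P z : Fin n → F) = z - (f2 y)⁻¹ • f2 z • y := fun z => rfl
  have hPy : P y = 0 := Subtype.ext (by rw [hP, smul_smul, inv_mul_cancel₀ h0, one_smul, sub_self]; rfl)
  have hTy : T y = x := by rw [hT, hPy, map_zero, Submodule.coe_zero, add_zero, smul_smul,
    inv_mul_cancel₀ h0, one_smul]
  have hf1e : ∀ w, f1 (e w : Fin n → F) = 0 := fun w => (e w).2
  have hTf : ∀ z, f1 (T z) = f2 z := fun z => by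
    have hxy : f1 x = f2 y := hc
    rw [hT, map_add, map_smul, map_smul, hf1e, add_zero, hxy, smul_eq_mul, smul_eq_mul,
      mul_comm, mul_assoc, mul_inv_cancel₀ h0, mul_one]
  have hinj : Function.Injective T := by
    rw [← LinearMap.ker_eq_bot, Submodule.eq_bot_iff]
    intro z hz
    rw [LinearMap.mem_ker] at hz
    have h2 : f2 z = 0 := by rw [← hTf, hz, map_zero]
    rw [hT, h2, zero_smul, smul_zero, zero_add] at hz
    have h3 : P z = 0 := e.map_eq_zero_iff.1 (Subtype.ext hz)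
    have := congrArg Subtype.val h3
    rwa [hP, h2, zero_smul, smul_zero, sub_zero] at this
  have hu : IsUnit (LinearMap.toMatrix' T) := by
    rw [← Matrix.mulVec_injective_iff_isUnit]
    intro a b h
    apply hinj
    rw [← LinearMap.toMatrix'_mulVec T a, ← LinearMap.toMatrix'_mulVec T b]
    exact h
  refine ⟨hu.unit, ?_, ?_⟩
  · rw [IsUnit.unit_spec, LinearMap.toMatrix'_mulVec, hTy]
  · funext i
    rw [IsUnit.unit_spec]
    have := hTf (Pi.single i 1)
    simp only [f1, f2, LinearMap.coe_mk, AddHom.coe_mk, single_one_dotProduct] at this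
    rw [← this, mulVec_transpose, dotProduct_comm]
    rw [← LinearMap.toMatrix'_mulVec T, mulVec_single_one]
    rfl

/-- Lower bound for a set of symmetric matrices closed under congruence. -/
theorem card_congruence_orbit [Fintype F] (h2 : (2 : F) ≠ 0) (O : Set (Matrix (Fin n) (Fin n) F))
    (hsym : ∀ S ∈ O, S.IsSymm) (hne : ∃ S ∈ O, S ≠ 0)
    (hinv : ∀ (g : GL (Fin n) F), ∀ S ∈ O,
      (g : Matrix (Fin n) (Fin n) F)ᵀ * S * (g : Matrix (Fin n) (Fin n) F) ∈ O) :
    (Fintype.card F ^ n - 1) / 2 ≤ Nat.card O := by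
  classical
  cases n with
  | zero => simp
  | succ n =>
    obtain ⟨S₀, hS₀, hS₀0⟩ := hne
    obtain ⟨v₀, hv₀⟩ := exists_quad_ne_zero (hsym _ hS₀) h2 hS₀0
    set c := v₀ ⬝ᵥ (S₀ *ᵥ v₀)
    set q := Fintype.card F
    let Src := Σ S : O, {x : Fin (n + 1) → F // x ⬝ᵥ (S.1 *ᵥ x) = c}
    let Tgt := Σ y : {y : Fin (n + 1) → F // y ≠ 0}, {φ : Fin (n + 1) → F // y.1 ⬝ᵥ φ = c}
    let Φ : Src → Tgt := fun p => ⟨⟨p.2.1, fun h => hv₀ (by
        show c = 0
        rw [← p.2.2, h]; simp)⟩, ⟨p.1.1 *ᵥ p.2.1, p.2.2⟩⟩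
    have hsurj : Function.Surjective Φ := by
      rintro ⟨⟨y, hy⟩, ⟨φ', hφ'⟩⟩
      obtain ⟨g, hg1, hg2⟩ := exists_matrix_pair (x := v₀) (φ := S₀ *ᵥ v₀) (y := y) (φ' := φ')
        hφ'.symm (by rw [show y ⬝ᵥ φ' = c from hφ']; exact hv₀)
      have hval : ((g : Matrix (Fin (n+1)) (Fin (n+1)) F)ᵀ * S₀ * g.1) *ᵥ y = φ' := by
        rw [← mulVec_mulVec, hg1, ← mulVec_mulVec, hg2]
      refine ⟨⟨⟨_, hinv g _ hS₀⟩, ⟨y, show y ⬝ᵥ (_ *ᵥ y) = c by rw [hval]; exact hφ'⟩⟩, ?_⟩
      exact Sigma.ext rfl (heq_of_eq (Subtype.ext hval))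
    have hle := Nat.card_le_card_of_surjective Φ hsurj
    have hsrc : Nat.card Src ≤ Nat.card O * (2 * q ^ n) := by
      rw [Nat.card_sigma, Nat.card_eq_fintype_card, ← Finset.card_univ (α := O), ← smul_eq_mul,
        ← Finset.sum_const]
      refine Finset.sum_le_sum fun S _ => ?_
      by_cases h0 : S.1 = 0
      · have : IsEmpty {x : Fin (n + 1) → F // x ⬝ᵥ (S.1 *ᵥ x) = c} :=
          ⟨fun x => hv₀ (by have := x.2; simp only [h0] at this; simpa using this.symm)⟩
        simp
      · obtain ⟨v, hv⟩ := exists_quad_ne_zero (hsym _ S.2) h2 h0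
        exact card_quad_le _ (hsym _ S.2) hv c
    have hfib : ∀ y : {y : Fin (n + 1) → F // y ≠ 0},
        q ^ n ≤ Nat.card {φ : Fin (n + 1) → F // y.1 ⬝ᵥ φ = c} := by
      rintro ⟨y, hy⟩
      obtain ⟨k, hk⟩ := Function.ne_iff.1 hy
      have hk : y k ≠ 0 := hk
      have hq : q ^ n = Nat.card (Fin n → F) := by simp [q]
      rw [hq]
      refine Nat.card_le_card_of_injective (fun z =>
        ⟨k.insertNth ((c - ∑ i, y (k.succAbove i) * z i) / y k) z, ?_⟩) ?_
      · rw [dotProduct, Fin.sum_univ_succAbove _ k]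
        simp only [Fin.insertNth_apply_same, Fin.insertNth_apply_succAbove]
        rw [mul_div_cancel₀ _ hk]
        ring
      · intro a b h
        funext i
        simpa using congrFun (congrArg Subtype.val h) (k.succAbove i)
    have htgt : (q ^ (n + 1) - 1) * q ^ n ≤ Nat.card Tgt := by
      rw [Nat.card_sigma]
      have hc1 : Fintype.card {y : Fin (n + 1) → F // y ≠ 0} = q ^ (n + 1) - 1 := by
        rw [Fintype.card_subtype_compl, Fintype.card_fun, Fintype.card_fin,
          Fintype.card_subtype_eq]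
      rw [← hc1, ← Finset.card_univ, ← smul_eq_mul, ← Finset.sum_const]
      exact Finset.sum_le_sum fun y _ => hfib y
    have hqn : 0 < q ^ n := pow_pos Fintype.card_pos n
    have h3 : (q ^ (n + 1) - 1) * q ^ n ≤ (Nat.card O * 2) * q ^ n := by
      rw [mul_assoc]
      exact htgt.trans (hle.trans hsrc)
    have h4 := Nat.le_of_mul_le_mul_right h3 hqn
    show (q ^ (n + 1) - 1) / 2 ≤ _
    omega

end Cfsg.Agent.Lib.MinDegree
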