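import Mathlib

/-!
A non-trivial representation of least degree of a finite group is irreducible.
-/

set_option autoImplicit false

namespace Cfsg.Agent.Lib.MinDegree

open Module

/-- An endomorphism of finite order that is unipotent of class two is the identity. -/
theorem eq_one_of_sq_zero {V : Type*} [AddCommGroup V] [Module ℂ V] (a : Module.End ℂ V) {k : ℕ}
    (hk : 0 < k) (ha : a ^ k = 1) (hN : (a - 1) * (a - 1) = 0) : a = 1 := by
  have key : ∀ j : ℕ, a ^ j = 1 + (j : ℂ) • (a - 1) := by
    intro j
    induction j with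
    | zero => simp
    | succ j ih =>
      rw [pow_succ', ih, mul_add, mul_one, mul_smul_comm]
      have : a * (a - 1) = a - 1 := by
        calc a * (a - 1) = (a - 1) * (a - 1) + (a - 1) := by rw [sub_mul a 1, one_mul]; abel
          _ = a - 1 := by rw [hN, zero_add]
      rw [this, Nat.cast_succ, add_smul, one_smul]
      abel
  have h := key k
  rw [ha, left_eq_add, smul_eq_zero] at h
  exact sub_eq_zero.1 (h.resolve_left (Nat.cast_ne_zero.2 hk.ne'))

/-- If every non-trivial representation has degree at least that of `ρ`, then `ρ` is irreducible. -/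
theorem irreducible_of_bound {G : Type*} [Group G] [Finite G] {V : Type*} [AddCommGroup V]
    [Module ℂ V] [FiniteDimensional ℂ V] (ρ : Representation ℂ G V) (hnt : ∃ g, ρ g ≠ 1)
    (hsub : ∀ (U : Submodule ℂ V) (σ : Representation ℂ G U), (∃ g, σ g ≠ 1) →
      finrank ℂ V ≤ finrank ℂ U)
    (hquot : ∀ (U : Submodule ℂ V) (σ : Representation ℂ G (V ⧸ U)), (∃ g, σ g ≠ 1) →
      finrank ℂ V ≤ finrank ℂ (V ⧸ U)) : ρ.IsIrreducible := by
  obtain ⟨g₀, hg₀⟩ := hnt
  have hne : (⊥ : Submodule ℂ V) ≠ ⊤ := by
    intro h
    refine hg₀ (LinearMap.ext fun v => ?_)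
    have hv : ∀ w : V, w = 0 := fun w => by
      have : w ∈ (⊥ : Submodule ℂ V) := by rw [h]; trivial
      simpa using this
    rw [hv (ρ g₀ v), hv ((1 : Module.End ℂ V) v)]
  have hnt' : Nontrivial (Subrepresentation ρ) := by
    refine ⟨⟨⊥, ⊤, fun h => hne ?_⟩⟩
    exact congrArg Subrepresentation.toSubmodule h
  refine ⟨fun S => ?_⟩
  by_contra hS
  push Not at hS
  set U := S.toSubmodule
  have hU0 : U ≠ ⊥ := fun h => hS.1 (Subrepresentation.toSubmodule_injective h)
  have hU1 : U ≠ ⊤ := fun h => hS.2 (Subrepresentation.toSubmodule_injective h)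
  have hlt := Submodule.finrank_lt hU1
  have hpos : 0 < finrank ℂ U := Submodule.one_le_finrank_iff.2 hU0
  have hsum := U.finrank_quotient_add_finrank
  let σ : Representation ℂ G U :=
    { toFun := fun g => (ρ g).restrict fun v hv => S.apply_mem_toSubmodule g hv
      map_one' := by
        apply LinearMap.ext; intro v; apply Subtype.ext
        show ρ 1 v.1 = v.1
        rw [map_one, Module.End.one_apply]
      map_mul' := fun g h => by
        apply LinearMap.ext; intro v; apply Subtype.ext
        show ρ (g * h) v.1 = ρ g (ρ h v.1)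
        rw [map_mul, Module.End.mul_apply] }
  let τ : Representation ℂ G (V ⧸ U) :=
    { toFun := fun g => U.mapQ U (ρ g) fun v hv => S.apply_mem_toSubmodule g hv
      map_one' := by
        refine Submodule.linearMap_qext _ (LinearMap.ext fun v => ?_)
        show Submodule.Quotient.mk (ρ 1 v) = Submodule.Quotient.mk v
        rw [map_one, Module.End.one_apply]
      map_mul' := fun g h => by
        refine Submodule.linearMap_qext _ (LinearMap.ext fun v => ?_)
        show Submodule.Quotient.mk (ρ (g * h) v) = Submodule.Quotient.mk (ρ g (ρ h v))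
        rw [map_mul, Module.End.mul_apply] }
  have hσ : ∀ g, σ g = 1 := by
    by_contra h
    push Not at h
    have := hsub U σ h
    omega
  have hτ : ∀ g, τ g = 1 := by
    by_contra h
    push Not at h
    have := hquot U τ h
    omega
  refine hg₀ (eq_one_of_sq_zero (ρ g₀) (orderOf_pos g₀) ?_ ?_)
  · rw [← map_pow, pow_orderOf_eq_one, map_one]
  · apply LinearMap.ext
    intro v
    have h1 : ρ g₀ v - v ∈ U := by
      rw [← Submodule.Quotient.mk_eq_zero, Submodule.Quotient.mk_sub, sub_eq_zero]
      exact LinearMap.congr_fun (hτ g₀) (Submodule.Quotient.mk v)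
    have h2 : ρ g₀ (ρ g₀ v - v) = ρ g₀ v - v :=
      congrArg Subtype.val (LinearMap.congr_fun (hσ g₀) ⟨_, h1⟩)
    simp only [Module.End.mul_apply, LinearMap.sub_apply, Module.End.one_apply, LinearMap.zero_apply]
    rw [h2, sub_self]

end Cfsg.Agent.Lib.MinDegree
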