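import Cfsg.Agent.Lib.MinDegree.Basic
import Cfsg.Agent.Lib.LieTwisted.SuzukiStructure

/-!
A non-trivial complex representation of Sz(q), q = 2^(2m+1), has degree at least 2^m (q - 1).

The centre of the root group has q - 1 non-trivial characters, permuted transitively by the torus; on
each eigenspace the root group acts by operators among which q/2 are trace-orthogonal.
-/

set_option autoImplicit false

namespace Cfsg.Agent.Lib.MinDegree.Suzuki

open Module Cfsg.Agent.Lib.LieTwisted.Suzuki Cfsg.Agent.Lib.MinDegree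

variable {F : Type*} [Field F] [Fintype F] {m : ℕ}
variable (h : IsSzField F m)

/-- The centre of the root group as a homomorphism. -/
def centreHom : Multiplicative F →* Cfsg.Sz F m where
  toFun b := uS h 0 (Multiplicative.toAdd b)
  map_one' := h.uS_zero
  map_mul' b c := by
    rw [h.uS_mul]
    simp [sg_zero]

include h in
/-- A character killing all `x + σ x`. -/
theorem exists_invariant_char :
    ∃ ψ : AddChar F ℂ, (∃ u, ψ u ≠ 1) ∧ ∀ x, ψ (sg m x) = ψ x := by
  classical
  let L : F →+ F :=
    { toFun := fun t => t + sg m t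
      map_zero' := by simp [sg_zero]
      map_add' := fun a b => by rw [h.sg_add]; ring }
  have hL : ¬ Function.Surjective L := fun hs => by
    have hi : Function.Injective L := Finite.injective_iff_surjective.2 hs
    have : L 1 = L 0 := by
      show (1 : F) + sg m 1 = 0 + sg m 0
      rw [sg_one, sg_zero]
      linear_combination h.two0
    exact one_ne_zero (hi this)
  obtain ⟨u, hu⟩ : ∃ u, u ∉ L.range := by
    by_contra hc
    push Not at hc
    exact hL fun y => hc y
  have : Finite (F ⧸ L.range) := inferInstance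
  obtain ⟨χ, hχ⟩ := (AddChar.exists_apply_ne_zero (a := (QuotientAddGroup.mk u : F ⧸ L.range))).2
    (fun h0 => hu ((QuotientAddGroup.eq_zero_iff u).1 h0))
  refine ⟨χ.compAddMonoidHom (QuotientAddGroup.mk' L.range), ⟨u, hχ⟩, fun x => ?_⟩
  have he : (QuotientAddGroup.mk (sg m x) : F ⧸ L.range) = QuotientAddGroup.mk x := by
    rw [eq_comm, QuotientAddGroup.eq]
    exact ⟨x, show x + sg m x = -x + sg m x by rw [h.neg_eq]⟩
  exact congrArg χ he

include h in
/-- The radical of the commutator pairing. -/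
theorem radical {ψ : AddChar F ℂ} (hψ : ∃ u, ψ u ≠ 1) (hψs : ∀ x, ψ (sg m x) = ψ x) {k a : F}
    (hk : k ≠ 0) (ha : ∀ c, ψ (k * (sg m a * c + sg m c * a)) = 1) :
    a = 0 ∨ a = k / sg m k := by
  obtain ⟨u, hu⟩ := hψ
  have hzero : sg m k * a ^ 2 + k * a = 0 := by
    by_contra hne
    obtain ⟨c, hc⟩ := h.sg_surjective (u / (sg m k * a ^ 2 + k * a))
    have h1 := ha c
    rw [mul_add, AddChar.map_add_eq_mul, ← hψs (k * (sg m a * c)), sg_mul, sg_mul, h.sg_sg,
      ← AddChar.map_add_eq_mul, show sg m k * (a ^ 2 * sg m c) + k * (sg m c * a) =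
        (sg m k * a ^ 2 + k * a) * sg m c by ring, hc, mul_div_cancel₀ _ hne] at h1
    exact hu h1
  have h2 : a * (sg m k * a + k) = 0 := by linear_combination hzero
  rcases mul_eq_zero.1 h2 with h3 | h3
  · exact Or.inl h3
  · refine Or.inr ?_
    rw [eq_div_iff (mt sg_eq_zero.1 hk)]
    linear_combination h3 + (-k) * h.two0

include h in
/-- Dimension of a space where the centre acts by a non-trivial character. -/
theorem eigenspace_bound {W : Type*} [AddCommGroup W] [Module ℂ W] [FiniteDimensional ℂ W]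
    (hW : 0 < finrank ℂ W) {ψ : AddChar F ℂ} (hψ : ∃ u, ψ u ≠ 1)
    (hψs : ∀ x, ψ (sg m x) = ψ x) {k : F} (hk : k ≠ 0) (P : F → Module.End ℂ W) (hP0 : P 0 = 1)
    (hP : ∀ a c, P a * P c = ψ (k * (sg m a * c)) • P (a + c)) :
    2 ^ m ≤ finrank ℂ W := by
  classical
  have hψ0 : ∀ x, ψ x ≠ 0 := fun x => (AddChar.val_isUnit ψ x).ne_zero
  have hu : ∀ a, IsUnit (P a) := fun a => by
    rw [Module.End.isUnit_iff]
    have haa : a + a = 0 := by linear_combination a * h.two0
    have hinj : Function.Injective (P a) := fun x y hxy => by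
      have := congrArg (P a) hxy
      rw [← Module.End.mul_apply, ← Module.End.mul_apply, hP, haa, hP0] at this
      simpa [hψ0] using this
    exact ⟨hinj, LinearMap.injective_iff_surjective.1 hinj⟩
  set a₀ := k / sg m k with ha₀
  have ha₀0 : a₀ ≠ 0 := div_ne_zero hk (mt sg_eq_zero.1 hk)
  have htr : ∀ a, a ≠ 0 → a ≠ a₀ → LinearMap.trace ℂ W (P a) = 0 := by
    intro a h0 h1
    obtain ⟨c, hc⟩ : ∃ c, ψ (k * (sg m a * c + sg m c * a)) ≠ 1 := by
      by_contra hcon
      push Not at hcon
      rcases radical h hψ hψs hk hcon with h' | h'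
      · exact h0 h'
      · exact h1 h'
    have hcomm : ψ (k * (sg m c * a)) • (P a * P c) = ψ (k * (sg m a * c)) • (P c * P a) := by
      rw [hP, hP, smul_smul, smul_smul, mul_comm (ψ _), add_comm c a]
    obtain ⟨u, hu'⟩ := hu c
    have h3 := congrArg (fun T => LinearMap.trace ℂ W (T * (↑u⁻¹ : Module.End ℂ W))) hcomm
    simp only [smul_mul_assoc, map_smul, smul_eq_mul] at h3
    rw [← hu', mul_assoc, Units.mul_inv, mul_one, LinearMap.trace_mul_comm,
      Units.inv_mul_cancel_left] at h3
    have h4 : (ψ (k * (sg m c * a)) - ψ (k * (sg m a * c))) * LinearMap.trace ℂ W (P a) = 0 := by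
      linear_combination h3
    rcases mul_eq_zero.1 h4 with h5 | h5
    · exfalso
      apply hc
      rw [mul_add, AddChar.map_add_eq_mul, ← sub_eq_zero.1 h5, ← AddChar.map_add_eq_mul,
        show ∀ x : F, x + x = 0 from fun x => by linear_combination x * h.two0,
        AddChar.map_zero_eq_one]
    · exact h5
  obtain ⟨φ, hφ⟩ := (AddChar.exists_apply_ne_zero (a := a₀)).2 ha₀0
  have hφsq : ∀ x, φ x * φ x = 1 := fun x => by
    rw [← AddChar.map_add_eq_mul, show x + x = 0 by linear_combination x * h.two0,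
      AddChar.map_zero_eq_one]
  have hφ' : φ a₀ = -1 := (mul_self_eq_one_iff.1 (hφsq a₀)).resolve_left hφ
  let T := {a : F // φ a = 1}
  have hcardT : 2 * Fintype.card T = Fintype.card F := by
    have e : {a : F // ¬ φ a = 1} ≃ T :=
      { toFun := fun a => ⟨a.1 + a₀, by
          rcases mul_self_eq_one_iff.1 (hφsq a.1) with h1 | h1
          · exact absurd h1 a.2
          · rw [AddChar.map_add_eq_mul, h1, hφ']; norm_num⟩
        invFun := fun a => ⟨a.1 + a₀, by rw [AddChar.map_add_eq_mul, a.2, hφ']; norm_num⟩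
        left_inv := fun a => Subtype.ext (by
          show a.1 + a₀ + a₀ = a.1
          linear_combination a₀ * h.two0)
        right_inv := fun a => Subtype.ext (by
          show a.1 + a₀ + a₀ = a.1
          linear_combination a₀ * h.two0) }
    have := Fintype.card_congr (Equiv.sumCompl (fun a : F => φ a = 1))
    rw [Fintype.card_sum, Fintype.card_congr e] at this
    have h2T : Fintype.card T + Fintype.card T = Fintype.card F := this
    omega
  have hli : LinearIndependent ℂ (fun t : T => P t.1) := by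
    rw [Fintype.linearIndependent_iff]
    intro g hg s
    have h1 := congrArg (fun T' => LinearMap.trace ℂ W (T' * P s.1)) hg
    simp only [Finset.sum_mul, smul_mul_assoc, hP, map_sum, map_smul, zero_mul, map_zero,
      smul_eq_mul] at h1
    rw [Finset.sum_eq_single s] at h1
    · rw [show s.1 + s.1 = 0 by linear_combination s.1 * h.two0, hP0, LinearMap.trace_one] at h1
      rcases mul_eq_zero.1 h1 with h2 | h2
      · exact h2
      · rcases mul_eq_zero.1 h2 with h3 | h3
        · exact absurd h3 (hψ0 _)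
        · exact absurd h3 (Nat.cast_ne_zero.2 hW.ne')
    · intro t _ hts
      rw [htr]
      · ring
      · intro he
        exact hts (Subtype.ext (by linear_combination he + (-s.1) * h.two0))
      · intro he
        have h2 := congrArg φ he
        rw [AddChar.map_add_eq_mul, t.2, s.2, hφ'] at h2
        norm_num at h2
    · simp
  have h1 := hli.fintype_card_le_finrank
  rw [Module.finrank_linearMap] at h1
  by_contra hlt
  push Not at hlt
  have h2 : finrank ℂ W * finrank ℂ W < 2 ^ m * 2 ^ m := Nat.mul_self_lt_mul_self hlt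
  have h3 : 2 ^ (2 * m + 1) = 2 * (2 ^ m * 2 ^ m) := by
    rw [← pow_add, ← pow_succ']; congr 1; ring
  rw [h.card, h3] at hcardT
  generalize 2 ^ m * 2 ^ m = Y at h2 hcardT
  generalize finrank ℂ W * finrank ℂ W = X at h1 h2
  omega

include h in
/-- The degree bound. -/
theorem degree_bound (hm : 1 ≤ m) {V : Type*} [AddCommGroup V] [Module ℂ V]
    [FiniteDimensional ℂ V] (ρ : Representation ℂ (Cfsg.Sz F m) V) (hnt : ∃ g, ρ g ≠ 1) :
    2 ^ m * (2 ^ (2 * m + 1) - 1) ≤ finrank ℂ V := by
  classical
  set τ := centreHom h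
  obtain ⟨ψ, hψ, hψs⟩ := exists_invariant_char h
  have hne : ψ ≠ 1 := by
    obtain ⟨u, hu⟩ := hψ
    intro h1
    exact hu (by rw [h1, AddChar.one_apply])
  have hprim := AddChar.IsPrimitive.of_ne_one hne
  have hbij : Function.Bijective (AddChar.mulShift ψ) :=
    (Fintype.bijective_iff_injective_and_card _).2
      ⟨AddChar.to_mulShift_inj_of_isPrimitive hprim, (AddChar.card_eq).symm⟩
  -- a non-trivial character occurs
  have hacts : ρ (τ (Multiplicative.ofAdd 1)) ≠ 1 := by
    intro h1
    obtain ⟨g, hg⟩ := hnt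
    have hsimp := h.isSimple hm
    rcases hsimp.eq_bot_or_eq_top_of_normal _
      (inferInstance : (MonoidHom.ker (ρ : _ →* Module.End ℂ V)).Normal) with hk | hk
    · have hmem : uS h 0 1 ∈ MonoidHom.ker (ρ : _ →* Module.End ℂ V) := h1
      rw [hk, Subgroup.mem_bot, ← h.uS_zero] at hmem
      exact one_ne_zero (h.uS_coords_inj hmem).2
    · have : g ∈ MonoidHom.ker (ρ : _ →* Module.End ℂ V) := by rw [hk]; trivial
      exact hg this
  obtain ⟨χ, hχ, hocc⟩ := exists_occurs ρ τ hacts
  obtain ⟨k₁, rfl⟩ := hbij.2 χ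
  have hk₁ : k₁ ≠ 0 := by
    intro h0
    exact hχ (by rw [AddChar.mulShift_apply, h0, zero_mul, AddChar.map_zero_eq_one])
  -- all non-trivial characters occur
  have hall : ∀ k : F, k ≠ 0 → Occurs ρ τ (AddChar.mulShift ψ k) := by
    intro k hk
    have hinj : Function.Injective (fun e : Fˣ => sg m (e : F) * (e : F) ^ 2) := by
      intro a b hab
      have h2 := congrArg (sg m) (show sg m (a : F) * (a : F) ^ 2 = sg m (b : F) * (b : F) ^ 2 from hab)
      rw [sg_mul, sg_mul, h.sg_sg, h.sg_sg, sg_pow, sg_pow] at h2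
      haveI := h.charTwo
      have h3 : sg m (a : F) * a = sg m (b : F) * b :=
        CharTwo.sq_injective (show (sg m (a : F) * a) ^ 2 = (sg m (b : F) * b) ^ 2 by
          linear_combination h2)
      exact Units.ext (h.sg_mul_self_inj h3)
    have hsurj : Function.Surjective (fun e : Fˣ => Units.mk0 (sg m (e : F) * (e : F) ^ 2)
        (mul_ne_zero (mt sg_eq_zero.1 e.ne_zero) (pow_ne_zero _ e.ne_zero))) :=
      Finite.surjective_of_injective fun a b hab => hinj (congrArg Units.val hab)
    obtain ⟨e, he⟩ := hsurj (Units.mk0 (k / k₁) (div_ne_zero hk hk₁))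
    have he' : sg m (e : F) * (e : F) ^ 2 = k / k₁ := congrArg Units.val he
    have := Occurs.conj ρ τ hocc (dS h e)⁻¹ (AddMonoidHom.mulLeft (k / k₁)) fun b => by
      show (dS h e)⁻¹⁻¹ * uS h 0 b * (dS h e)⁻¹ = uS h 0 (k / k₁ * b)
      rw [inv_inv, h.dS_mul_uS, mul_inv_cancel_right, mul_zero, he']
    convert this using 1
    ext b
    show ψ (k * b) = ψ (k₁ * (k / k₁ * b))
    congr 1
    field_simp
  -- eigenspaces
  have hproj : ∀ χ, LinearMap.IsProj (LinearMap.range (eigenProj ρ τ χ)) (eigenProj ρ τ χ) := by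
    intro χ
    refine ⟨fun v => LinearMap.mem_range_self _ v, ?_⟩
    rintro _ ⟨v, rfl⟩
    rw [eigenProj_apply ρ τ χ (eigenProj ρ τ χ v)]
    simp only [eigenProj_mem ρ τ, smul_smul, ← AddChar.map_add_eq_mul, neg_add_cancel,
      AddChar.map_zero_eq_one, one_smul, Finset.sum_const, Finset.card_univ]
    rw [← Nat.cast_smul_eq_nsmul ℂ, smul_smul,
      inv_mul_cancel₀ (Nat.cast_ne_zero.2 Fintype.card_ne_zero), one_smul]
  have hsum : ∑ χ : AddChar F ℂ, finrank ℂ (LinearMap.range (eigenProj ρ τ χ)) = finrank ℂ V := by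
    have h1 : (∑ χ : AddChar F ℂ, eigenProj ρ τ χ) = 1 :=
      LinearMap.ext fun v => by rw [LinearMap.sum_apply, sum_eigenProj, Module.End.one_apply]
    have h2 := congrArg (LinearMap.trace ℂ V) h1
    rw [map_sum, LinearMap.trace_one, Finset.sum_congr rfl fun χ _ => (hproj χ).trace] at h2
    exact_mod_cast h2
  have hbig : ∀ k : F, k ≠ 0 →
      2 ^ m ≤ finrank ℂ (LinearMap.range (eigenProj ρ τ (AddChar.mulShift ψ k))) := by
    intro k hk
    set χ := AddChar.mulShift ψ k
    set W := LinearMap.range (eigenProj ρ τ χ)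
    have hz : ∀ b, ∀ v ∈ W, ρ (uS h 0 b) v = χ b • v := by
      rintro b _ ⟨v, rfl⟩
      exact eigenProj_mem ρ τ χ v b
    have hcomm : ∀ a v, eigenProj ρ τ χ (ρ (uS h a 0) v) = ρ (uS h a 0) (eigenProj ρ τ χ v) := by
      intro a v
      rw [eigenProj_apply, eigenProj_apply, map_smul, map_sum]
      congr 1
      refine Finset.sum_congr rfl fun b _ => ?_
      rw [map_smul, ← Module.End.mul_apply, ← map_mul, ← Module.End.mul_apply, ← map_mul]
      congr 3
      show uS h 0 b * uS h a 0 = uS h a 0 * uS h 0 b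
      rw [h.uS_mul, h.uS_mul]
      simp [sg_zero]
    have hmap : ∀ a, ∀ v ∈ W, ρ (uS h a 0) v ∈ W := by
      rintro a _ ⟨v, rfl⟩
      exact ⟨ρ (uS h a 0) v, hcomm a v⟩
    have hpos : 0 < finrank ℂ W := by
      obtain ⟨v, hv0, hv'⟩ := hall k hk
      have hv : ∀ b, ρ (τ (Multiplicative.ofAdd b)) v = χ b • v := hv'
      have hvW : v ∈ W := ⟨v, by
        rw [eigenProj_apply]
        simp only [hv, smul_smul]
        rw [← Finset.sum_smul, smul_smul]
        simp only [← AddChar.map_add_eq_mul, neg_add_cancel, AddChar.map_zero_eq_one,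
          Finset.sum_const, Finset.card_univ, nsmul_eq_mul, mul_one]
        rw [inv_mul_cancel₀ (Nat.cast_ne_zero.2 Fintype.card_ne_zero), one_smul]⟩
      rw [Module.finrank_pos_iff_exists_ne_zero]
      exact ⟨⟨v, hvW⟩, fun h0 => hv0 (congrArg Subtype.val h0)⟩
    refine eigenspace_bound h hpos hψ hψs hk (fun a => (ρ (uS h a 0)).restrict (hmap a)) ?_ ?_
    · apply LinearMap.ext
      intro v
      apply Subtype.ext
      show ρ (uS h 0 0) v.1 = v.1
      rw [h.uS_zero, map_one, Module.End.one_apply]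
    · intro a c
      apply LinearMap.ext
      intro v
      apply Subtype.ext
      show ρ (uS h a 0) (ρ (uS h c 0) v.1) = ψ (k * (sg m a * c)) • ρ (uS h (a + c) 0) v.1
      have hsplit : uS h a 0 * uS h c 0 = uS h (a + c) 0 * uS h 0 (sg m a * c) := by
        rw [h.uS_mul, h.uS_mul]
        simp [sg_zero]
      rw [← Module.End.mul_apply, ← map_mul, hsplit, map_mul, Module.End.mul_apply,
        hz _ v.1 v.2, map_smul]
      rfl
  rw [← hsum]
  calc 2 ^ m * (2 ^ (2 * m + 1) - 1)
      = ∑ _k : {k : F // k ≠ 0}, 2 ^ m := by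
        rw [Finset.sum_const, Finset.card_univ, Fintype.card_subtype_compl, Fintype.card_subtype_eq,
          h.card, smul_eq_mul, mul_comm]
    _ ≤ ∑ k : {k : F // k ≠ 0}, finrank ℂ (LinearMap.range (eigenProj ρ τ (AddChar.mulShift ψ k.1))) :=
        Finset.sum_le_sum fun k _ => hbig k.1 k.2
    _ ≤ _ := by
        rw [← Finset.sum_image (g := fun k : {k : F // k ≠ 0} => AddChar.mulShift ψ k.1)
          (f := fun χ => finrank ℂ (LinearMap.range (eigenProj ρ τ χ)))
          (fun a _ b _ hab => Subtype.ext (hbij.1 hab))]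
        exact Finset.sum_le_sum_of_subset (Finset.subset_univ _)

end Cfsg.Agent.Lib.MinDegree.Suzuki
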