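import Cfsg.Agent.Lib.MinDegree.Basic
import Cfsg.Agent.Lib.MinDegree.Congruence
import Cfsg.Agent.Lib.Symplectic.Std

/-!
The Landazuri-Seitz bound `(q ^ n - 1) / 2` for `Sp_{2n}(q)`, `q` odd.
-/

set_option autoImplicit false

namespace Cfsg.Agent.Lib.MinDegree

open Matrix Module

variable {n : ℕ} {F : Type*} [Field F]

variable (n F) in
/-- The group of symmetric matrices. -/
def symMats : AddSubgroup (Matrix (Fin n) (Fin n) F) where
  carrier := {S | S.IsSymm}
  add_mem' ha hb := IsSymm.add ha hb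
  zero_mem' := Matrix.isSymm_zero
  neg_mem' ha := IsSymm.neg ha

variable (n F) in
/-- The lower unitriangular abelian subgroup of `Sp_{2n}`. -/
def lowerUni : Multiplicative (symMats n F) →* symplecticGroup (Fin n) F where
  toFun B := ⟨fromBlocks 1 0 (Multiplicative.toAdd B).1 1, by
    have hB : (Multiplicative.toAdd B).1ᵀ = (Multiplicative.toAdd B).1 := (Multiplicative.toAdd B).2
    rw [SymplecticGroup.mem_iff]
    simp [Matrix.J, fromBlocks_transpose, fromBlocks_multiply, hB]⟩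
  map_one' := by
    apply Subtype.ext
    show fromBlocks 1 0 (0 : Matrix (Fin n) (Fin n) F) 1 = 1
    exact fromBlocks_one
  map_mul' A B := by
    apply Subtype.ext
    show fromBlocks 1 0 ((Multiplicative.toAdd A).1 + (Multiplicative.toAdd B).1) 1 =
      fromBlocks 1 0 (Multiplicative.toAdd A).1 1 * fromBlocks 1 0 (Multiplicative.toAdd B).1 1
    simp [fromBlocks_multiply]

theorem lowerUni_coe (B : symMats n F) :
    (lowerUni n F (Multiplicative.ofAdd B) : Matrix (Fin n ⊕ Fin n) (Fin n ⊕ Fin n) F) =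
      fromBlocks 1 0 B.1 1 := rfl

variable (n F) in
/-- The Levi subgroup `GL_n` of `Sp_{2n}`. -/
def leviSp : GL (Fin n) F →* symplecticGroup (Fin n) F where
  toFun a := ⟨fromBlocks a.1 0 0 ((a⁻¹).1)ᵀ, by
    have h1 : a.1 * (a⁻¹).1 = 1 := a.mul_inv
    have h2 : (a⁻¹).1ᵀ * a.1ᵀ = 1 := by rw [← transpose_mul, h1, transpose_one]
    rw [SymplecticGroup.mem_iff]
    simp [Matrix.J, fromBlocks_transpose, fromBlocks_multiply, -Matrix.coe_units_inv, h1, h2]⟩
  map_one' := Subtype.ext (by simp [fromBlocks_one])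
  map_mul' a b := Subtype.ext (by
    show fromBlocks (a * b).1 0 0 ((a * b)⁻¹).1ᵀ =
      fromBlocks a.1 0 0 ((a⁻¹).1)ᵀ * fromBlocks b.1 0 0 ((b⁻¹).1)ᵀ
    rw [_root_.mul_inv_rev, Units.val_mul, Units.val_mul, transpose_mul, fromBlocks_multiply]
    simp)

/-- Congruence on symmetric matrices. -/
def congrHom (a : Matrix (Fin n) (Fin n) F) : symMats n F →+ symMats n F where
  toFun B := ⟨aᵀ * B.1 * a, by
    have hB : B.1ᵀ = B.1 := B.2
    show (aᵀ * B.1 * a)ᵀ = aᵀ * B.1 * a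
    rw [transpose_mul, transpose_mul, transpose_transpose, hB, mul_assoc]⟩
  map_zero' := Subtype.ext (by simp)
  map_add' B C := Subtype.ext (by simp [mul_add, add_mul])

theorem leviSp_conj_lowerUni (a : GL (Fin n) F) (B : symMats n F) :
    (leviSp n F a)⁻¹ * lowerUni n F (Multiplicative.ofAdd B) * leviSp n F a =
      lowerUni n F (Multiplicative.ofAdd (congrHom a.1 B)) := by
  rw [← map_inv]
  apply Subtype.ext
  show fromBlocks (a⁻¹).1 0 0 ((a⁻¹⁻¹).1)ᵀ * fromBlocks 1 0 B.1 1 *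
    fromBlocks a.1 0 0 ((a⁻¹).1)ᵀ = fromBlocks 1 0 (a.1ᵀ * B.1 * a.1) 1
  have h1 : (a⁻¹).1 * a.1 = 1 := a.inv_mul
  have h2 : a.1ᵀ * (a⁻¹).1ᵀ = 1 := by rw [← transpose_mul, h1, transpose_one]
  simp [fromBlocks_multiply, -Matrix.coe_units_inv, h1, h2, mul_assoc]

/-- The additive character attached to a matrix. -/
def symChar (ψ : AddChar F ℂ) (S : Matrix (Fin n) (Fin n) F) : AddChar (symMats n F) ℂ :=
  ψ.compAddMonoidHom ((traceAddMonoidHom (Fin n) F).comp
    ((AddMonoidHom.mulLeft S).comp (symMats n F).subtype))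

theorem symChar_apply (ψ : AddChar F ℂ) (S : Matrix (Fin n) (Fin n) F) (B : symMats n F) :
    symChar ψ S B = ψ (trace (S * B.1)) := rfl

theorem symChar_surjective [Fintype F] (h2 : (2 : F) ≠ 0) {ψ : AddChar F ℂ} (hψ : ψ 1 ≠ 1)
    (χ : AddChar (symMats n F) ℂ) :
    ∃ S : Matrix (Fin n) (Fin n) F, S.IsSymm ∧ symChar ψ S = χ := by
  classical
  let f : symMats n F → AddChar (symMats n F) ℂ := fun S => symChar ψ S.1
  have hinj : Function.Injective f := by
    intro S T h
    by_contra hne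
    have h0 : (S - T).1 ≠ 0 := fun h0 => hne (sub_eq_zero.1 (Subtype.ext h0))
    obtain ⟨v, hv⟩ := exists_quad_ne_zero (S - T).2 h2 h0
    set c := v ⬝ᵥ ((S - T).1 *ᵥ v)
    let B : symMats n F := ⟨c⁻¹ • vecMulVec v v, by
      show (c⁻¹ • vecMulVec v v)ᵀ = c⁻¹ • vecMulVec v v
      rw [transpose_smul, transpose_vecMulVec]⟩
    have htr : trace ((S - T).1 * B.1) = 1 := by
      show trace ((S - T).1 * (c⁻¹ • vecMulVec v v)) = 1
      rw [Matrix.mul_smul, trace_smul, mul_vecMulVec, trace_vecMulVec, dotProduct_comm,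
        smul_eq_mul]
      exact inv_mul_cancel₀ hv
    have h' := DFunLike.congr_fun h B
    simp only [f, symChar_apply] at h'
    have hsub : trace (S.1 * B.1) = 1 + trace (T.1 * B.1) := by
      rw [← htr, AddSubgroup.coe_sub, Matrix.sub_mul, trace_sub]; ring
    rw [hsub, AddChar.map_add_eq_mul] at h'
    exact hψ (mul_right_cancel₀ (IsUnit.ne_zero (AddChar.val_isUnit ψ _)) (by rw [h', one_mul]))
  have hbij : Function.Bijective f :=
    (Fintype.bijective_iff_injective_and_card f).2 ⟨hinj, (AddChar.card_eq).symm⟩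
  obtain ⟨S, hS⟩ := hbij.2 χ
  exact ⟨S.1, S.2, hS⟩

variable [Fintype F] {V : Type*} [AddCommGroup V] [Module ℂ V]

theorem two_ne_zero_of_odd (hodd : Odd (Fintype.card F)) : (2 : F) ≠ 0 := by
  intro h
  have h2 : ringChar F = 2 := by
    have h' : ((2 : ℕ) : F) = 0 := by exact_mod_cast h
    exact ((Nat.prime_dvd_prime_iff_eq (CharP.char_is_prime F (ringChar F)) Nat.prime_two).1
      ((ringChar.spec F 2).1 h'))
  exact (Nat.not_even_iff_odd.2 hodd) (Nat.even_iff.2 (FiniteField.even_card_of_char_two h2))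

theorem perfect_sp (hn : 2 ≤ n) (hodd : Odd (Fintype.card F)) :
    commutator (symplecticGroup (Fin n) F) = ⊤ ∧ IsSimpleGroup (Cfsg.PSp n F) := by
  have h3 : 3 ≤ Fintype.card F := by
    have := Fintype.one_lt_card (α := F)
    obtain ⟨k, hk⟩ := hodd
    omega
  have h : 3 ≤ n ∨ (n = 2 ∧ ∃ s : Finset F, 3 ≤ s.card) ∨ ∃ s : Finset F, 4 ≤ s.card := by
    by_cases hn3 : 3 ≤ n
    · exact Or.inl hn3
    · exact Or.inr (Or.inl ⟨by omega, Finset.univ, by rwa [Finset.card_univ]⟩)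
  exact ⟨Symplectic.commutator_sp_eq_top h, Symplectic.isSimpleGroup_psp (by omega) h⟩

/-- In a non-trivial representation a non-zero element of the abelian subgroup acts non-trivially. -/
theorem lowerUni_acts (hn : 2 ≤ n) (hodd : Odd (Fintype.card F))
    (ρ : Representation ℂ (symplecticGroup (Fin n) F) V) (h : ∃ g, ρ g ≠ 1) {B : symMats n F}
    (hB : B ≠ 0) : ρ (lowerUni n F (Multiplicative.ofAdd B)) ≠ 1 := by
  intro h1
  obtain ⟨g, hg⟩ := h
  obtain ⟨hperf, hsimp⟩ := perfect_sp (F := F) hn hodd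
  have h2 := two_ne_zero_of_odd hodd
  have : IsSimpleGroup (symplecticGroup (Fin n) F ⧸ Subgroup.center _) := hsimp
  have hker := normal_eq_top_of_not_le_center hperf (MonoidHom.ker (ρ : _ →* Module.End ℂ V))
    (x := lowerUni n F (Multiplicative.ofAdd B)) h1 (by
      rw [Symplectic.mem_center_sp_iff, lowerUni_coe]
      rintro (h' | h')
      · rw [← fromBlocks_one, fromBlocks_inj] at h'
        exact hB (Subtype.ext h'.2.2.1)
      · rw [← fromBlocks_one, fromBlocks_neg, fromBlocks_inj] at h'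
        have e := congrFun (congrFun h'.1 ⟨0, by omega⟩) ⟨0, by omega⟩
        rw [Matrix.neg_apply, one_apply_eq] at e
        exact h2 (by linear_combination e))
  exact hg (by
    have : g ∈ MonoidHom.ker (ρ : _ →* Module.End ℂ V) := by rw [hker]; trivial
    exact this)

/-- Landazuri-Seitz bound: a non-trivial complex representation of `Sp_{2n}(q)`, `q` odd, has
degree at least `(q ^ n - 1) / 2`. -/
theorem degree_bound_sp [FiniteDimensional ℂ V] (hn : 2 ≤ n) (hodd : Odd (Fintype.card F))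
    (ρ : Representation ℂ (symplecticGroup (Fin n) F) V) (h : ∃ g, ρ g ≠ 1) :
    (Fintype.card F ^ n - 1) / 2 ≤ finrank ℂ V := by
  classical
  have h2 := two_ne_zero_of_odd hodd
  obtain ⟨ψ, hψ⟩ := (AddChar.exists_apply_ne_zero (a := (1 : F))).2 one_ne_zero
  set τ := lowerUni n F
  let O : Set (Matrix (Fin n) (Fin n) F) :=
    {S | S.IsSymm ∧ S ≠ 0 ∧ Occurs ρ τ (symChar ψ S)}
  have hne : ∃ S ∈ O, S ≠ 0 := by
    let B : symMats n F := ⟨1, Matrix.isSymm_one⟩
    have hB : B ≠ 0 := fun h => by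
      have := congrFun (congrFun (congrArg Subtype.val h) (⟨0, by omega⟩ : Fin n)) ⟨0, by omega⟩
      simp [B] at this
    obtain ⟨χ, hχ, hocc⟩ := exists_occurs ρ τ (lowerUni_acts hn hodd ρ h hB)
    obtain ⟨S, hS, rfl⟩ := symChar_surjective h2 hψ χ
    have hS0 : S ≠ 0 := fun h0 => hχ (by rw [h0, symChar_apply, zero_mul, trace_zero, AddChar.map_zero_eq_one])
    exact ⟨S, ⟨hS, hS0, hocc⟩, hS0⟩
  have hinv : ∀ (g : GL (Fin n) F), ∀ S ∈ O, g.1ᵀ * S * g.1 ∈ O := by
    rintro g S ⟨hS, hS0, hocc⟩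
    have hgT : IsUnit (g.1ᵀ) := (Matrix.isUnit_transpose (A := g.1)).2 g.isUnit
    refine ⟨?_, ?_, ?_⟩
    · show (g.1ᵀ * S * g.1)ᵀ = g.1ᵀ * S * g.1
      rw [transpose_mul, transpose_mul, transpose_transpose, hS.eq, mul_assoc]
    · intro h0
      exact hS0 ((g.isUnit.mul_left_eq_zero).1 ((hgT.mul_right_eq_zero).1 (by rwa [mul_assoc] at h0)))
    · have := Occurs.conj ρ τ hocc (leviSp n F hgT.unit) (congrHom g.1ᵀ) fun B => by
        rw [leviSp_conj_lowerUni]
        rfl
      have he : (symChar ψ S).compAddMonoidHom (congrHom g.1ᵀ) = symChar ψ (g.1ᵀ * S * g.1) := by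
        ext B
        show ψ (trace (S * (g.1ᵀᵀ * B.1 * g.1ᵀ))) = ψ (trace (g.1ᵀ * S * g.1 * B.1))
        rw [transpose_transpose, ← mul_assoc, trace_mul_comm, ← mul_assoc, ← mul_assoc]
      rwa [he] at this
  refine (card_congruence_orbit h2 O (fun S hS => hS.1) hne hinv).trans ?_
  refine le_trans ?_ (card_le_finrank ρ τ {χ | Occurs ρ τ χ} fun _ h => h)
  refine Nat.card_le_card_of_injective (fun S => ⟨symChar ψ S.1, S.2.2.2⟩) ?_
  rintro ⟨S, hS⟩ ⟨T, hT⟩ h
  have h' : symChar ψ S = symChar ψ T := congrArg Subtype.val h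
  by_contra hne
  have h0 : S - T ≠ 0 := fun h0 => hne (Subtype.ext (sub_eq_zero.1 h0))
  obtain ⟨v, hv⟩ := exists_quad_ne_zero (hS.1.sub hT.1) h2 h0
  let B : symMats n F := ⟨(v ⬝ᵥ ((S - T) *ᵥ v))⁻¹ • vecMulVec v v, by
    show (_ • vecMulVec v v)ᵀ = _ • vecMulVec v v
    rw [transpose_smul, transpose_vecMulVec]⟩
  have htr : trace ((S - T) * B.1) = 1 := by
    show trace ((S - T) * (_ • vecMulVec v v)) = 1
    rw [Matrix.mul_smul, trace_smul, mul_vecMulVec, trace_vecMulVec, dotProduct_comm ((S - T) *ᵥ v) v,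
      smul_eq_mul]
    exact inv_mul_cancel₀ hv
  have h'' := DFunLike.congr_fun h' B
  rw [symChar_apply, symChar_apply,
    show trace (S * B.1) = 1 + trace (T * B.1) by rw [← htr, Matrix.sub_mul, trace_sub]; ring,
    AddChar.map_add_eq_mul] at h''
  exact hψ (mul_right_cancel₀ (IsUnit.ne_zero (AddChar.val_isUnit ψ _)) (by rw [h'', one_mul]))

end Cfsg.Agent.Lib.MinDegree
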